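import Groth.Agent.OmegaLib.DOmega
import Groth.Agent.OmegaLib.Sections
import Groth.Agent.AmpleLib.Ample
import Groth.Agent.AmpleLib.Twist
import Groth.Agent.PicLib.FormalGen
import Groth.Agent.NormalExtLib.Basic
import Groth.Agent.S2148
import Groth.Prelude.Def_CohB1
import Mathlib.Algebra.Homology.DerivedCategory.Ext.ExactSequences

/-!
# The `p`-th power map on twists of an invertible module and differentials

On a normal integral scheme over a perfect field of characteristic `p` the `p`-th powers of local sections of an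
invertible module `M` are exactly the kernel of the twisted derivation `M^p → M^p ⊗ Ω`.
-/

set_option autoImplicit false
set_option backward.isDefEq.respectTransparency.types false
set_option linter.style.haveILetI false
universe u

open CategoryTheory CategoryTheory.Limits CategoryTheory.Abelian AlgebraicGeometry Opposite TopologicalSpace

namespace Groth.Agent.KodV15

open Groth.Agent.Coherent Groth.Agent.PicLib Groth.Agent.AmpleLib

variable {k : Type u} [Field k] {X : Scheme.{u}} [X.Over (Spec (CommRingCat.of k))]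
  [QuasiSeparated (X ↘ Spec (CommRingCat.of k))] {p : ℕ} [Fact p.Prime] [CharP k p]

include k in
theorem natCast_eq_zero (U : X.Opens) : (p : Γ(X, U)) = 0 := by
  have h : (p : Γ(Spec (CommRingCat.of k), ⊤)) = 0 := by
    rw [← map_natCast (Scheme.ΓSpecIso (CommRingCat.of k)).inv.hom p, CharP.cast_eq_zero k p, map_zero]
  rw [← map_natCast ((X ↘ Spec (CommRingCat.of k)).appLE ⊤ U le_top).hom p, h, map_zero]

include k in
theorem add_pow_p (U : X.Opens) (a b : Γ(X, U)) : (a + b) ^ p = a ^ p + b ^ p := by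
  obtain ⟨r, hr⟩ := exists_add_pow_prime_eq (Fact.out : p.Prime) a b
  rw [hr, natCast_eq_zero (k := k) U]
  ring

variable (k) in
/-- The exterior derivative. -/
noncomputable def D (U : X.Opens) : Γ(X, U) →+ Γ(Omega.sheaf (X ↘ Spec (CommRingCat.of k)), U) :=
  (OmegaSh.dOmega (X ↘ Spec (CommRingCat.of k))).app U

theorem D_pow_mul (U : X.Opens) (c b : Γ(X, U)) : D k U (c ^ p * b) = c ^ p • D k U b := by
  have hpow : ∀ n : ℕ, D k U (c ^ (n + 1)) = ((n + 1 : ℕ) : Γ(X, U)) • (c ^ n • D k U c) := by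
    intro n
    induction n with
    | zero => simp
    | succ n ih =>
      show (OmegaSh.dOmega _).app U _ = _
      rw [pow_succ c (n + 1), OmegaLib.app_mul]
      show c ^ (n + 1) • D k U c + c • D k U (c ^ (n + 1)) = _
      rw [ih, smul_smul, smul_smul, smul_smul, ← add_smul]
      congr 1
      push_cast
      ring
  show (OmegaSh.dOmega _).app U _ = _
  rw [OmegaLib.app_mul]
  show c ^ p • D k U b + b • D k U (c ^ p) = _
  rw [add_eq_left, ← Nat.sub_add_cancel (Fact.out : p.Prime).one_le, hpow,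
    Nat.sub_add_cancel (Fact.out : p.Prime).one_le, natCast_eq_zero (k := k) U, zero_smul, smul_zero]

theorem D_res {U V : X.Opens} (h : V ≤ U) (b : Γ(X, U)) :
    D k V (res h b) = resM (Omega.sheaf (X ↘ Spec (CommRingCat.of k))) h (D k U b) :=
  OmegaLib.app_map _ h b

/-- A function on an integral normal affine open with vanishing differential is a `p`-th power. -/
theorem exists_root [PerfectRing k p] [IsIntegral X] (hXn : Pi1.IsNormalScheme X) {U : X.Opens}
    (hU : IsAffineOpen U) [Nonempty U] {b : Γ(X, U)} (hb : D k U b = 0) : ∃ c : Γ(X, U), c ^ p = b := by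
  classical
  let q := X ↘ Spec (CommRingCat.of k)
  let k₀ := Γ(Spec (CommRingCat.of k), ⊤)
  let e : k ≃+* k₀ := (Scheme.ΓSpecIso (CommRingCat.of k)).symm.commRingCatIsoToRingEquiv
  letI : Field k₀ := (MulEquiv.isField (Field.toIsField k) e.symm.toMulEquiv).toField
  haveI : CharP k₀ p := charP_of_injective_ringHom (f := e.toRingHom) e.injective p
  haveI : ExpChar k₀ p := ExpChar.prime Fact.out
  haveI : PerfectRing k₀ p := PerfectRing.ofSurjective k₀ p fun z => by
    obtain ⟨c, hc⟩ := surjective_frobenius k p (e.symm z)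
    exact ⟨e c, by rw [frobenius_def, ← map_pow, ← frobenius_def, hc, e.apply_symm_apply]⟩
  letI : Algebra k₀ Γ(X, U) := (q.appLE ⊤ U le_top).hom.toAlgebra
  haveI := functionField_isFractionRing_of_isAffineOpen X U hU
  letI : Algebra k₀ X.functionField := ((algebraMap Γ(X, U) X.functionField).comp (algebraMap k₀ Γ(X, U))).toAlgebra
  haveI : IsScalarTower k₀ Γ(X, U) X.functionField := IsScalarTower.of_algebraMap_eq fun _ => rfl
  obtain ⟨ψ, hψ⟩ := OmegaLib.exists_sections_equiv (OmegaLib.isUniversal_dOmega q) (le_top : U ≤ q ⁻¹ᵁ ⊤)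
    (isAffineOpen_top _) hU
  have h0 : KaehlerDifferential.D k₀ Γ(X, U) b = 0 := ψ.injective ((hψ b).trans (hb.trans (map_zero ψ).symm))
  have h1 : KaehlerDifferential.D k₀ X.functionField (algebraMap Γ(X, U) X.functionField b) = 0 := by
    rw [← KaehlerDifferential.map_D k₀ k₀ Γ(X, U) X.functionField, h0, map_zero]
  obtain ⟨z, hz⟩ := (S2148.result p (algebraMap Γ(X, U) X.functionField b)).1 h1
  haveI := NormalExtLib.isIntegrallyClosed_sections hXn U hU
  obtain ⟨c, rfl⟩ := (IsIntegrallyClosed.isIntegral_iff (R := Γ(X, U)) (K := X.functionField)).1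
    (IsIntegral.of_pow (Fact.out : p.Prime).pos (hz ▸ isIntegral_algebraMap : IsIntegral Γ(X, U) (z ^ p)))
  exact ⟨c, IsFractionRing.injective Γ(X, U) X.functionField ((map_pow _ c p).trans hz)⟩

variable {M : X.Modules}

variable (k p) in
/-- Characterisation of the twisted derivation. -/
def IsDer {V : X.Opens} (w : Γ(CohB1.tensorPow M p, V))
    (t : Γ(CohB1.tensorMod (CohB1.tensorPow M p) (Omega.sheaf (X ↘ Spec (CommRingCat.of k))), V)) : Prop :=
  ∀ (W : X.Opens) (h : W ≤ V) (g : Γ(M, W)), IsGen M W g → ∀ b : Γ(X, W),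
    resM (CohB1.tensorPow M p) h w = b • powSec g p → resM _ h t = tmul (powSec g p) (D k W b)

theorem key {V W₁ W₂ W : X.Opens} (w : Γ(CohB1.tensorPow M p, V)) (h₁ : W₁ ≤ V) (h₂ : W₂ ≤ V) (e₁ : W ≤ W₁) (e₂ : W ≤ W₂)
    {g₁ : Γ(M, W₁)} (hg₁ : IsGen M W₁ g₁) {g₂ : Γ(M, W₂)} (b₁ : Γ(X, W₁)) (b₂ : Γ(X, W₂))
    (hb₁ : resM (CohB1.tensorPow M p) h₁ w = b₁ • powSec g₁ p)
    (hb₂ : resM (CohB1.tensorPow M p) h₂ w = b₂ • powSec g₂ p) :
    resM (CohB1.tensorMod (CohB1.tensorPow M p) (Omega.sheaf (X ↘ Spec (CommRingCat.of k)))) e₁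
        (tmul (powSec g₁ p) (D k W₁ b₁)) =
      resM _ e₂ (tmul (powSec g₂ p) (D k W₂ b₂)) := by
  obtain ⟨c, hc⟩ := (hg₁ W e₁).2 (resM M e₂ g₂)
  simp only at hc
  have hb : res e₁ b₁ = c ^ p * res e₂ b₂ := by
    refine ((isGen_powSec hg₁ p) W e₁).1 ?_
    show res e₁ b₁ • resM _ e₁ (powSec g₁ p) = (c ^ p * res e₂ b₂) • resM _ e₁ (powSec g₁ p)
    rw [mul_comm, mul_smul, resM_powSec e₁ g₁ p, ← powSec_smul, hc, ← resM_powSec e₁ g₁ p, ← resM_powSec e₂ g₂ p,
      ← resM_smul, ← resM_smul, ← hb₁, ← hb₂, resM_resM, resM_resM]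
  rw [resM_tmul, resM_tmul, ← D_res, ← D_res, hb, D_pow_mul, tmul_smul_right, ← tmul_smul_left, resM_powSec,
    ← powSec_smul, hc, ← resM_powSec]

theorem existsUnique_isDer (hM : PicF.IsInvertible M) {V : X.Opens} (w : Γ(CohB1.tensorPow M p, V)) :
    ∃! t, IsDer k p w t := by
  let P := CohB1.tensorMod (CohB1.tensorPow M p) (Omega.sheaf (X ↘ Spec (CommRingCat.of k)))
  choose U hyU g hg using fun y : V => exists_isGen hM y.1
  let W : V → X.Opens := fun y => V ⊓ U y
  have hW : ∀ y, W y ≤ V := fun y => inf_le_left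
  let g' : ∀ y, Γ(M, W y) := fun y => resM M inf_le_right (g y)
  have hg' : ∀ y, IsGen M (W y) (g' y) := fun y => (hg y).restrict inf_le_right
  choose b hb using fun y => (isGen_powSec (hg' y) p (W y) le_rfl).2 (resM (CohB1.tensorPow M p) (hW y) w)
  simp only [resM_self] at hb
  let F : TopCat.Sheaf Ab X := ⟨P.presheaf, P.isSheaf⟩
  have hcov : V ≤ ⨆ y, W y := fun z hz => Opens.mem_iSup.2 ⟨⟨z, hz⟩, hz, hyU ⟨z, hz⟩⟩
  obtain ⟨t, ht, -⟩ := F.existsUnique_gluing' W V (fun y => homOfLE (hW y)) hcov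
    (fun y => tmul (powSec (g' y) p) (D k (W y) (b y)))
    (fun y y' => key w (hW y) (hW y') inf_le_left inf_le_right (hg' y) (b y) (b y') (hb y).symm (hb y').symm)
  have ht' : ∀ y, resM P (hW y) t = tmul (powSec (g' y) p) (D k (W y) (b y)) := ht
  refine ⟨t, fun W' h g₀ hg₀ b₀ hb₀ => ?_, fun t' ht₁ => ?_⟩
  · refine sec_ext P _ _ fun z hz => ?_
    refine ⟨W' ⊓ W ⟨z, h hz⟩, inf_le_left, ⟨hz, h hz, hyU ⟨z, h hz⟩⟩, ?_⟩
    rw [resM_resM, ← resM_resM P (hW ⟨z, h hz⟩) inf_le_right t, ht']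
    exact key w (hW ⟨z, h hz⟩) h inf_le_right inf_le_left (hg' _) _ _ (hb _).symm hb₀
  · refine sec_ext P _ _ fun z hz => ⟨W ⟨z, hz⟩, hW _, ⟨hz, hyU ⟨z, hz⟩⟩, ?_⟩
    rw [ht', ht₁ (W ⟨z, hz⟩) (hW _) _ (hg' _) _ (hb _).symm]

include k in
theorem powSec_injective [IsIntegral X] (hM : PicF.IsInvertible M) (V : X.Opens) :
    Function.Injective fun a : Γ(M, V) => powSec a p := by
  intro a a' h
  refine sec_ext M _ _ fun z hz => ?_
  obtain ⟨U, hzU, g, hg⟩ := exists_isGen hM z
  refine ⟨V ⊓ U, inf_le_left, ⟨hz, hzU⟩, ?_⟩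
  obtain ⟨x, hx⟩ := (hg (V ⊓ U) inf_le_right).2 (resM M inf_le_left a)
  obtain ⟨y, hy⟩ := (hg (V ⊓ U) inf_le_right).2 (resM M inf_le_left a')
  simp only at hx hy
  have h' := congrArg (resM (CohB1.tensorPow M p) (inf_le_left : V ⊓ U ≤ V)) h
  simp only [resM_powSec] at h'
  rw [← hx, ← hy, powSec_smul, powSec_smul, ← resM_powSec] at h'
  have hp : x ^ p = y ^ p := (isGen_powSec hg p (V ⊓ U) inf_le_right).1 h'
  rw [← hx, ← hy]
  congr 1
  have h2 : (x - y) ^ p = 0 := by
    have := add_pow_p (k := k) (p := p) (V ⊓ U) (x - y) y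
    rwa [sub_add_cancel, hp, right_eq_add] at this
  exact sub_eq_zero.1 (eq_zero_of_pow_eq_zero h2)

include k in
theorem powSec_add (hM : PicF.IsInvertible M) (V : X.Opens) (a b : Γ(M, V)) :
    powSec (a + b) p = powSec a p + powSec b p := by
  refine sec_ext _ _ _ fun z hz => ?_
  obtain ⟨U, hzU, g, hg⟩ := exists_isGen hM z
  refine ⟨V ⊓ U, inf_le_left, ⟨hz, hzU⟩, ?_⟩
  obtain ⟨x, hx⟩ := (hg (V ⊓ U) inf_le_right).2 (resM M inf_le_left a)
  obtain ⟨y, hy⟩ := (hg (V ⊓ U) inf_le_right).2 (resM M inf_le_left b)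
  simp only at hx hy
  rw [map_add, resM_powSec, resM_powSec, resM_powSec, map_add, ← hx, ← hy, ← add_smul, powSec_smul, powSec_smul,
    powSec_smul, add_pow_p (k := k), add_smul]

/-- Sections killed by the twisted derivation are `p`-th powers. -/
theorem exists_powSec_eq [PerfectRing k p] [IsIntegral X] (hXn : Pi1.IsNormalScheme X) (hM : PicF.IsInvertible M)
    {V : X.Opens} (w : Γ(CohB1.tensorPow M p, V)) (hw : IsDer k p w 0) :
    ∃ a : Γ(M, V), powSec a p = w := by
  let Ω := Omega.sheaf (X ↘ Spec (CommRingCat.of k))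
  have hloc : ∀ y : V, ∃ (U : X.Opens) (hU : U ≤ V) (a : Γ(M, U)),
      y.1 ∈ U ∧ powSec a p = resM (CohB1.tensorPow M p) hU w := by
    intro y
    obtain ⟨U₀, hyU₀, g₀, hg₀⟩ := exists_isGen hM y.1
    obtain ⟨U, hU, hyU, hle⟩ := Opens.isBasis_iff_nbhd.mp X.isBasis_affineOpens
      (show y.1 ∈ V ⊓ U₀ from ⟨y.2, hyU₀⟩)
    haveI : Nonempty U := ⟨⟨y.1, hyU⟩⟩
    let g := resM M (hle.trans inf_le_right) g₀
    have hg : IsGen M U g := hg₀.restrict _
    obtain ⟨b, hb⟩ := (isGen_powSec hg p U le_rfl).2 (resM _ (hle.trans inf_le_left) w)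
    simp only [resM_self] at hb
    have h0 := hw U (hle.trans inf_le_left) g hg b hb.symm
    rw [map_zero] at h0
    have hbij := bijective_tmul_gen (M := Ω) (isGen_powSec hg p) U le_rfl
    have hswap : (tensorSwap Ω (CohB1.tensorPow M p)).app U (tmul (D k U b) (powSec g p)) =
        tmul (powSec g p) (D k U b) := Bilin.desc_tmul _ _ _ _
    have hz : tmul (D k U b) (powSec g p) = 0 := by
      have h2 := congrArg ((tensorSwap (CohB1.tensorPow M p) Ω).app U) h0
      rw [map_zero, show (tensorSwap (CohB1.tensorPow M p) Ω).app U (tmul (powSec g p) (D k U b)) =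
        tmul (D k U b) (powSec g p) from Bilin.desc_tmul _ _ _ _] at h2
      exact h2.symm
    have hD : D k U b = 0 := hbij.1 (by
      simp only [resM_self]
      rw [hz, tmul_zero_left])
    obtain ⟨c, hc⟩ := exists_root hXn hU hD
    exact ⟨U, hle.trans inf_le_left, c • g, hyU, by rw [powSec_smul, hc, hb]⟩
  choose U hU a hyU ha using hloc
  let F : TopCat.Sheaf Ab X := ⟨M.presheaf, M.isSheaf⟩
  obtain ⟨t, ht, -⟩ := F.existsUnique_gluing' U V (fun y => homOfLE (hU y))
    (fun z hz => Opens.mem_iSup.2 ⟨⟨z, hz⟩, hyU ⟨z, hz⟩⟩) a (fun y y' => by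
      refine powSec_injective (k := k) (p := p) hM (U y ⊓ U y') ?_
      show powSec (resM M inf_le_left (a y)) p = powSec (resM M inf_le_right (a y')) p
      rw [← resM_powSec, ← resM_powSec, ha, ha, resM_resM, resM_resM])
  refine ⟨t, sec_ext _ _ _ fun z hz => ⟨U ⟨z, hz⟩, hU _, hyU ⟨z, hz⟩, ?_⟩⟩
  rw [resM_powSec, show resM M (hU ⟨z, hz⟩) t = a ⟨z, hz⟩ from ht ⟨z, hz⟩, ha]

/-- If `H^0(M^p ⊗ Ω) = 0` and `H^1(M^p) = 0` then `H^1(M) = 0`. -/
theorem subsingleton_H1 [PerfectRing k p] [IsIntegral X] (hXn : Pi1.IsNormalScheme X) (hM : PicF.IsInvertible M)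
    (h0 : Subsingleton (Coh.HH X (CohB1.tensorMod (CohB1.tensorPow M p) (Omega.sheaf (X ↘ Spec (CommRingCat.of k)))) 0))
    (h1 : Subsingleton (Coh.HH X (CohB1.tensorPow M p) 1)) : Subsingleton (Coh.HH X M 1) := by
  let P := CohB1.tensorPow M p
  let Q := CohB1.tensorMod P (Omega.sheaf (X ↘ Spec (CommRingCat.of k)))
  let Φ : Coh.toAb M ⟶ Coh.toAb P :=
    ⟨{ app := fun V => AddCommGrpCat.ofHom
        (AddMonoidHom.mk' (fun a : Γ(M, V.unop) => powSec a p) (powSec_add (k := k) hM V.unop))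
       naturality := fun V V' f => by
        ext a
        exact (resM_powSec f.unop.le (show Γ(M, V.unop) from a) p).symm }⟩
  choose T hT hT' using fun (V : X.Opens) (w : Γ(P, V)) => existsUnique_isDer (k := k) hM w
  have Tadd : ∀ (V : X.Opens) (w w' : Γ(P, V)), T V (w + w') = T V w + T V w' := by
    intro V w w'
    refine (hT' V (w + w') _ ?_).symm
    intro W h g hg b hb
    obtain ⟨b₁, hb₁⟩ := (isGen_powSec hg p W le_rfl).2 (resM P h w)
    obtain ⟨b₂, hb₂⟩ := (isGen_powSec hg p W le_rfl).2 (resM P h w')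
    simp only [resM_self] at hb₁ hb₂
    have hb' : b = b₁ + b₂ := (isGen_powSec hg p W le_rfl).1 (by
      simp only [resM_self]
      rw [← hb, add_smul, hb₁, hb₂, map_add])
    rw [map_add, hT V w W h g hg b₁ hb₁.symm, hT V w' W h g hg b₂ hb₂.symm, hb', map_add, tmul_add_right]
  have Tres : ∀ (V V' : X.Opens) (h : V' ≤ V) (w : Γ(P, V)), T V' (resM P h w) = resM Q h (T V w) := by
    intro V V' h w
    refine (hT' V' _ _ ?_).symm
    intro W e g hg b hb
    rw [resM_resM] at hb ⊢
    exact hT V w W (e.trans h) g hg b hb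
  let Ψ : Coh.toAb P ⟶ Coh.toAb Q :=
    ⟨{ app := fun V => AddCommGrpCat.ofHom (AddMonoidHom.mk' (T V.unop) (Tadd V.unop))
       naturality := fun V V' f => by
        ext w
        exact Tres V.unop V'.unop f.unop.le w }⟩
  have hΦΨ : Φ ≫ Ψ = 0 := by
    ext V a
    show T V.unop (powSec (show Γ(M, V.unop) from a) p) = 0
    refine (hT' V.unop _ _ ?_).symm
    intro W h g hg b hb
    obtain ⟨x, hx⟩ := (hg W le_rfl).2 (resM M h (show Γ(M, V.unop) from a))
    simp only [resM_self] at hx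
    have hb' : x ^ p * 1 = b := (isGen_powSec hg p W le_rfl).1 (by
      simp only [resM_self]
      rw [← hb, resM_powSec, ← hx, powSec_smul, mul_one])
    have h10 : D k W 1 = 0 := OmegaLib.app_one _ _
    rw [map_zero, ← hb', D_pow_mul, h10, smul_zero, ← map_zero (show Γ(Omega.sheaf (X ↘ Spec (CommRingCat.of k)), W) →+ Γ(Q, W) from
      AddMonoidHom.mk' (fun z => tmul (powSec g p) z) (fun z z' => tmul_add_right _ z z'))]
    rfl
  haveI hmono : Mono Φ := by
    refine ⟨fun {K} g g' h => ?_⟩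
    ext V x
    exact powSec_injective (k := k) (p := p) hM V.unop
      (ConcreteCategory.congr_hom (congrArg (fun φ : K ⟶ Coh.toAb P => φ.hom.app V) h) x)
  have hker : IsLimit (KernelFork.ofι Φ hΦΨ) := by
    refine KernelFork.IsLimit.ofι' Φ hΦΨ fun {K} g hg => ?_
    have hex : ∀ (V : X.Opens) (x : K.obj.obj (op V)), ∃ a : Γ(M, V), powSec a p = g.hom.app (op V) x := by
      intro V x
      refine exists_powSec_eq hXn hM (k := k) (show Γ(P, V) from g.hom.app (op V) x) ?_
      have h0' : T V (show Γ(P, V) from g.hom.app (op V) x) = 0 :=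
        ConcreteCategory.congr_hom (congrArg (fun φ : K ⟶ Coh.toAb Q => φ.hom.app (op V)) hg) x
      exact h0' ▸ hT V _
    choose R hR using hex
    have Radd : ∀ (V : X.Opens) (x y : K.obj.obj (op V)), R V (x + y) = R V x + R V y := fun V x y =>
      powSec_injective (k := k) (p := p) hM V (by
        show powSec (R V (x + y)) p = powSec (R V x + R V y) p
        rw [powSec_add (k := k) hM, hR, hR, hR]
        exact map_add (g.hom.app (op V)).hom x y)
    refine ⟨⟨{ app := fun V => AddCommGrpCat.ofHom (AddMonoidHom.mk' (R V.unop) (Radd V.unop))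
               naturality := fun V V' f => by
                ext x
                refine powSec_injective (k := k) (p := p) hM V'.unop ?_
                show powSec (R V'.unop (K.obj.map f x)) p = powSec (resM M f.unop.le (R V.unop x)) p
                rw [← resM_powSec, hR, hR]
                exact ConcreteCategory.congr_hom (g.hom.naturality f) x }⟩, ?_⟩
    ext V x
    exact hR V.unop x
  let S : ShortComplex (TopCat.Sheaf AddCommGrpCat.{u} X) := ShortComplex.mk Φ (cokernel.π Φ) (cokernel.condition Φ)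
  have hS : S.ShortExact :=
    { exact := ShortComplex.exact_of_g_is_cokernel _ (cokernelIsCokernel Φ), mono_f := hmono
      epi_g := inferInstanceAs (Epi (cokernel.π Φ)) }
  let j : cokernel Φ ⟶ Coh.toAb Q := cokernel.desc Φ Ψ hΦΨ
  haveI : Mono j := (ShortComplex.mk Φ Ψ hΦΨ).exact_iff_mono_cokernel_desc.1
    (ShortComplex.exact_of_f_is_kernel _ hker)
  refine subsingleton_of_forall_eq 0 fun x => ?_
  have hx : x.comp (Ext.mk₀ S.f) (add_zero 1) = 0 := h1.elim _ _
  obtain ⟨y, rfl⟩ := Ext.covariant_sequence_exact₁ _ hS x hx (zero_add 1)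
  have hy : y = 0 := by
    apply Ext.addEquiv₀.injective
    refine Eq.trans ((cancel_mono j).1 (Eq.trans ?_ zero_comp.symm)) (map_zero _).symm
    exact (Sheaf.H.addEquiv₀_map j y).symm.trans ((congrArg _ (h0.elim _ 0)).trans (map_zero _))
  rw [hy]
  simp
  rfl

end Groth.Agent.KodV15
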